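import Cfsg.Agent.H0.TC
set_option maxRecDepth 100000
namespace H0.TCE6
open H0
noncomputable def r0 : TC.WTr := (.node (.node (.node (.node (.node (.node (.leaf [0] 0 0 false) (.leaf [1, 5, 1] 14 1 false)) (.leaf [1, 2, 1, 2, 1] 11 1 false)) (.node (.leaf [0, 1, 0, 1, 0] 6 1 false) (.leaf [4] 4 0 false))) (.node (.node (.leaf [1, 0, 1, 0, 1] 6 0 false) (.leaf [4, 3, 4] 18 0 false)) (.node (.leaf [2] 2 0 false) (.leaf [3, 4, 3] 18 1 false)))) (.node (.node (.node (.node (.leaf [4, 0, 4] 9 0 false) (.leaf [2, 5, 2] 17 1 false)) (.leaf [3] 3 0 false)) (.node (.leaf [3, 1, 3] 12 0 false) (.leaf [0, 4, 0] 9 1 false))) (.node (.node (.leaf [1] 1 0 false) (.leaf [0, 3, 0] 8 1 false)) (.node (.leaf [4, 2, 4] 16 0 false) (.leaf [5] 5 0 false))))) (.node (.node (.node (.node (.node (.leaf [5, 0, 5] 10 0 false) (.leaf [0, 5, 0] 10 1 false)) (.leaf [0, 2, 0] 7 1 false)) (.node (.leaf [2, 1, 2, 1, 2] 11 0 false) (.leaf [1, 4,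 1, 4, 1] 13 1 false))) (.node (.node (.leaf [3, 0, 3] 8 0 false) (.leaf [1, 3, 1] 12 1 false)) (.node (.leaf [5, 2, 5] 17 0 false) (.leaf [5, 4, 5, 4, 5] 20 0 false)))) (.node (.node (.node (.node (.leaf [2, 0, 2] 7 0 false) (.leaf [3, 5, 3] 19 1 false)) (.leaf [5, 3, 5] 19 0 false)) (.node (.leaf [4, 1, 4, 1, 4] 13 0 false) (.leaf [2, 4, 2] 16 1 false))) (.node (.node (.leaf [5, 1, 5] 14 0 false) (.leaf [2, 3, 2, 3, 2] 15 1 false)) (.node (.leaf [3, 2, 3, 2, 3] 15 0 false) (.leaf [4, 5, 4, 5, 4] 20 1 false))))))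
noncomputable def tS : Tr := (.leaf (nat_lit 0x3ff795e56b9e57961bffdc9725ca649c97ffff6b5ad6b5ae5d9e3ffd91565916b1926afff5d53d5d590641c7ffd3c5d97463d745cfff47d5a561735598fffd5955d575c95747fff4093b4ed545cd56ffd3d4e93a555024f3ff3951e4dd714e539ffd203911d46d1f4e3ff32101551014051cffd0331cfe4e11b46fff3fd023fcc74691affce62a91b38ce33fbff388e52a8e4384fdffcc63188d318fd37fff314c831cc5234e0ffca92a4712a4a93f3ff2a0a82ac702a8a7ffc8c2308e1508c30fff22c8b22c8d22c54ffc6f1bc6f1c4381c3ff14c1c14c5315053ffc000e0370dc370dfff070000000000000))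
noncomputable def tJ : Tr := (.leaf (nat_lit 0x3054934520430833102130b4401c2202401c225050701111508011100002452850b51101100134b050b510114009220250b50111400a205220405a334008025230508045305493051020049430549340204307032043083000324028102130b0401c22025070111100066666))
noncomputable def tQ : Tr := (.leaf (nat_lit 0x0))
noncomputable def tR : TC.WTr := r0
def hl : List ℕ := [0, 1, 2, 3, 4]
def B : List (List ℕ) := [[0, 0], [1, 1], [2, 2], [3, 3], [4, 4], [5, 5], [0, 1, 0, 1, 0, 1], [0, 2, 0, 2], [0, 3, 0, 3], [0, 4, 0, 4], [0, 5, 0, 5], [1, 2, 1, 2, 1, 2], [1, 3, 1, 3], [1, 4, 1, 4, 1, 4], [1, 5, 1, 5], [2, 3, 2, 3, 2, 3], [2, 4, 2, 4], [2, 5, 2, 5], [3, 4, 3, 4], [3, 5, 3, 5], [4, 5, 4, 5, 4, 5]]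
def subs : List (List ℕ) := [[0], [1], [2], [3], [4]]
def ex : List (List ℕ) := []
def inv (x : ℕ) : ℕ := [0, 1, 2, 3, 4, 5].getD x 0
noncomputable def rS : ℕ → ℕ := rowOf tS (nat_lit 8) (nat_lit 255) (nat_lit 70) (nat_lit 1180591620717411303423)
noncomputable def rJ : ℕ → ℕ := rowOf tJ (nat_lit 8) (nat_lit 255) (nat_lit 32) (nat_lit 4294967295)
noncomputable def C : TC.Cfg where
  S := look rS (nat_lit 10) (nat_lit 1023)
  J := look rJ (nat_lit 4) (nat_lit 15)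
  Q := lookQ tQ (nat_lit 8) (nat_lit 1) (nat_lit 1)
  R := tR.get
  hl := fun x => hl.contains x
  n := (nat_lit 27)
  M := (nat_lit 27)
  top := (nat_lit 540)
  nl := (nat_lit 6)
  need := (nat_lit 6)
  nr := (nat_lit 6)
theorem k0 : TC.chkRange C 0 1 = true := by decide +kernel
theorem rows0 : ∀ c < (0 + 1) * 64, c < C.M → TC.chkRow C c = true :=
  TC.rows_step (TC.rows_zero C) k0
theorem main {G : Type*} [Group G] (g : ℕ → G) (hB : ∀ r ∈ B, ev g r = 1) (H : Subgroup G)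
    (hH : ∀ w ∈ subs, ev g w ∈ H) :
    H.relIndex (Subgroup.closure (g '' {x | x < 6})) ≠ 0 ∧
      H.relIndex (Subgroup.closure (g '' {x | x < 6})) ≤ 27 :=
  TC.index_le C B subs ex inv hl tR.hint rfl (by decide +kernel) (by decide +kernel)
    (TC.rows_done rows0 (by decide +kernel)) g hB H hH
end H0.TCE6
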